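import Mathlib

/-! The largest products of orbit lengths for abelian groups of even permutations. -/

set_option autoImplicit false

namespace CfsgLib.AltMaxAbelian

/-- The order of the largest abelian subgroup of the alternating group of degree `n`. -/
def Gm : ℕ → ℕ
  | 0 => 1 | 1 => 1 | 2 => 1 | 3 => 3 | 4 => 4 | 5 => 5 | 6 => 9 | 7 => 12 | 8 => 16
  | n + 9 => 3 * Gm (n + 6)

/-- The largest product of a partition of `n`. -/
def gp : ℕ → ℕ
  | 0 => 1 | 1 => 1 | 2 => 2 | 3 => 3 | 4 => 4
  | n + 5 => 3 * gp (n + 2)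

/-- The orbit lengths of a largest abelian subgroup. -/
def best : ℕ → Multiset ℕ
  | 0 => 0 | 1 => {1} | 2 => {1, 1} | 3 => {3} | 4 => {4} | 5 => {5} | 6 => {3, 3} | 7 => {4, 3} | 8 => {4, 4}
  | n + 9 => 3 ::ₘ best (n + 6)

theorem Gm_add_three {n : ℕ} (h : 6 ≤ n) : Gm (n + 3) = 3 * Gm n := by
  obtain ⟨d, rfl⟩ := Nat.exists_eq_add_of_le h
  rw [show 6 + d + 3 = d + 9 by omega, Gm, show d + 6 = 6 + d by omega]

theorem best_add_three {n : ℕ} (h : 6 ≤ n) : best (n + 3) = 3 ::ₘ best n := by
  obtain ⟨d, rfl⟩ := Nat.exists_eq_add_of_le h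
  rw [show 6 + d + 3 = d + 9 by omega, best, show d + 6 = 6 + d by omega]

theorem gp_add_three {n : ℕ} (h : 2 ≤ n) : gp (n + 3) = 3 * gp n := by
  obtain ⟨d, rfl⟩ := Nat.exists_eq_add_of_le h
  rw [show 2 + d + 3 = d + 5 by omega, gp, show d + 2 = 2 + d by omega]

theorem Gm_pos : ∀ n, 0 < Gm n := by
  intro n
  induction n using Nat.strong_induction_on with
  | _ n ih =>
    rcases lt_or_ge n 9 with h | h
    · interval_cases n <;> decide
    · obtain ⟨d, rfl⟩ := Nat.exists_eq_add_of_le h
      rw [show 9 + d = d + 9 by omega, Gm]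
      have := ih (d + 6) (by omega)
      omega

theorem step (k m : ℕ) (hk : 1 ≤ k) (hk2 : k ≠ 2) :
    k * Gm m ≤ Gm (k + m) ∧ (k * Gm m = Gm (k + m) → best (k + m) = k ::ₘ best m) := by
  induction k using Nat.strong_induction_on generalizing m with
  | _ k ihk =>
    induction m using Nat.strong_induction_on with
    | _ m ihm =>
      rcases lt_or_ge k 9 with hk9 | hk9
      · rcases lt_or_ge m 9 with hm | hm
        · interval_cases k <;> first | (exact absurd rfl hk2) | (interval_cases m <;> decide)
        · obtain ⟨d, rfl⟩ := Nat.exists_eq_add_of_le hm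
          obtain ⟨h1, h2⟩ := ihm (6 + d) (by omega)
          have e1 : Gm (9 + d) = 3 * Gm (6 + d) := by
            rw [show 9 + d = 6 + d + 3 by omega, Gm_add_three (by omega)]
          have e2 : Gm (k + (9 + d)) = 3 * Gm (k + (6 + d)) := by
            rw [show k + (9 + d) = k + (6 + d) + 3 by omega, Gm_add_three (by omega)]
          rw [e1, e2]
          refine ⟨by nlinarith, fun h => ?_⟩
          have := h2 (by nlinarith)
          rw [show k + (9 + d) = k + (6 + d) + 3 by omega, show 9 + d = 6 + d + 3 by omega,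
            best_add_three (by omega), best_add_three (by omega), this, Multiset.cons_swap]
      · obtain ⟨h1, -⟩ := ihk (k - 3) (by omega) m (by omega) (by omega)
        have e : Gm (k + m) = 3 * Gm (k - 3 + m) := by
          rw [show k + m = k - 3 + m + 3 by omega, Gm_add_three (by omega)]
        have hlt : k * Gm m < 3 * (k - 3) * Gm m := Nat.mul_lt_mul_of_pos_right (by omega) (Gm_pos m)
        rw [e]
        refine ⟨by nlinarith, fun h => absurd h ?_⟩
        nlinarith

theorem step_gp (k m : ℕ) (hk : 1 ≤ k) : k * gp m ≤ gp (k + m) := by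
  induction k using Nat.strong_induction_on generalizing m with
  | _ k ihk =>
    induction m using Nat.strong_induction_on with
    | _ m ihm =>
      rcases lt_or_ge k 6 with hk6 | hk6
      · rcases lt_or_ge m 5 with hm | hm
        · interval_cases k <;> interval_cases m <;> decide
        · obtain ⟨d, rfl⟩ := Nat.exists_eq_add_of_le hm
          have h1 := ihm (2 + d) (by omega)
          rw [show 5 + d = 2 + d + 3 by omega, gp_add_three (by omega),
            show k + (2 + d + 3) = k + (2 + d) + 3 by omega, gp_add_three (by omega)]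
          nlinarith
      · have h1 := ihk (k - 3) (by omega) m (by omega)
        rw [show k + m = k - 3 + m + 3 by omega, gp_add_three (by omega)]
        have hlt : k * gp m ≤ 3 * (k - 3) * gp m := Nat.mul_le_mul_right _ (by omega)
        nlinarith

theorem step_pen (k m : ℕ) (hk : 2 ≤ k) (hkm : 3 ≤ k + m) : k * gp m < 2 * Gm (k + m) := by
  induction k using Nat.strong_induction_on generalizing m with
  | _ k ihk =>
    induction m using Nat.strong_induction_on with
    | _ m ihm =>
      rcases lt_or_ge k 9 with hk9 | hk9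
      · rcases lt_or_ge m 9 with hm | hm
        · interval_cases k <;> interval_cases m <;> first | decide | omega
        · obtain ⟨d, rfl⟩ := Nat.exists_eq_add_of_le hm
          have h1 := ihm (6 + d) (by omega) (by omega)
          rw [show 9 + d = 6 + d + 3 by omega, gp_add_three (by omega),
            show k + (6 + d + 3) = k + (6 + d) + 3 by omega, Gm_add_three (by omega)]
          nlinarith
      · have h1 := ihk (k - 3) (by omega) m (by omega) (by omega)
        rw [show k + m = k - 3 + m + 3 by omega, Gm_add_three (by omega)]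
        have hlt : k * gp m ≤ 3 * (k - 3) * gp m := Nat.mul_le_mul_right _ (by omega)
        nlinarith

theorem prod_le_gp (M : Multiset ℕ) (h : ∀ k ∈ M, 1 ≤ k) : M.prod ≤ gp M.sum := by
  induction M using Multiset.induction with
  | empty => simp [gp]
  | cons k M ih =>
    rw [Multiset.prod_cons, Multiset.sum_cons]
    exact (Nat.mul_le_mul_left k (ih fun x hx => h x (Multiset.mem_cons_of_mem hx))).trans
      (step_gp k _ (h k (Multiset.mem_cons_self k M)))

theorem prod_lt_of_pen (M : Multiset ℕ) (h : ∀ k ∈ M, 1 ≤ k) (h3 : 3 ≤ M.sum) {k : ℕ} (hk : k ∈ M)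
    (h2 : k % 4 = 2) : M.prod < 2 * Gm M.sum := by
  obtain ⟨t, rfl⟩ := Multiset.exists_cons_of_mem hk
  rw [Multiset.prod_cons, Multiset.sum_cons] at *
  exact (Nat.mul_le_mul_left k (prod_le_gp t fun x hx => h x (Multiset.mem_cons_of_mem hx))).trans_lt
    (step_pen k _ (by omega) h3)

theorem prod_le_Gm (M : Multiset ℕ) (h : ∀ k ∈ M, 1 ≤ k) (hp : ∀ k ∈ M, k % 4 ≠ 2) :
    M.prod ≤ Gm M.sum ∧ (M.prod = Gm M.sum → M = best M.sum) := by
  induction M using Multiset.induction with
  | empty => exact ⟨by simp [Gm], fun _ => rfl⟩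
  | cons k M ih =>
    obtain ⟨i1, i2⟩ := ih (fun x hx => h x (Multiset.mem_cons_of_mem hx)) fun x hx => hp x (Multiset.mem_cons_of_mem hx)
    have hk := h k (Multiset.mem_cons_self k M)
    have hk2 : k ≠ 2 := fun e => hp k (Multiset.mem_cons_self k M) (by rw [e])
    obtain ⟨s1, s2⟩ := step k M.sum hk hk2
    rw [Multiset.prod_cons, Multiset.sum_cons]
    have hle := Nat.mul_le_mul_left k i1
    refine ⟨hle.trans s1, fun e => ?_⟩
    have e1 : k * Gm M.sum = Gm (k + M.sum) := le_antisymm s1 (e ▸ hle)
    rw [s2 e1, ← i2 (Nat.eq_of_mul_eq_mul_left hk (e.trans e1.symm))]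

theorem best_mem : ∀ {n : ℕ}, 3 ≤ n → n ≠ 5 → ∀ k ∈ best n, k = 3 ∨ k = 4 := by
  intro n
  induction n using Nat.strong_induction_on with
  | _ n ih =>
    intro h3 h5 k hk
    rcases lt_or_ge n 9 with h | h
    · interval_cases n <;> simp_all [best] <;> exact hk.symm
    · obtain ⟨d, rfl⟩ := Nat.exists_eq_add_of_le h
      rw [show 9 + d = d + 9 by omega, best, Multiset.mem_cons] at hk
      rcases hk with rfl | hk
      · exact Or.inl rfl
      · exact ih (d + 6) (by omega) (by omega) (by omega) k hk

end CfsgLib.AltMaxAbelian
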