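import Cfsg.Agent.Lib.AltMaxAbelian.Arith

/-! Large abelian groups of even permutations are determined by their orbits. -/

set_option autoImplicit false
set_option linter.unusedSectionVars false

namespace CfsgLib.AltMaxAbelian

open Equiv Equiv.Perm

variable {α : Type*} [Fintype α] [DecidableEq α] (H : Subgroup (Perm α))

open Classical in
/-- The orbit of a point. -/
noncomputable def orb (x : α) : Finset α := Finset.univ.filter fun y => ∃ a ∈ H, a x = y

/-- The set of orbits. -/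
noncomputable def orbs : Finset (Finset α) := Finset.univ.image (orb H)

/-- The orbit lengths. -/
noncomputable def parts : Multiset ℕ := (orbs H).val.map Finset.card

theorem mem_orb {x y : α} : y ∈ orb H x ↔ ∃ a ∈ H, a x = y := by simp [orb]

theorem self_mem_orb (x : α) : x ∈ orb H x := (mem_orb H).2 ⟨1, H.one_mem, rfl⟩

theorem apply_mem_orb {a : Perm α} (ha : a ∈ H) (x : α) : a x ∈ orb H x := (mem_orb H).2 ⟨a, ha, rfl⟩

theorem mem_orb_iff_eq {x y : α} : y ∈ orb H x ↔ orb H y = orb H x := by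
  refine ⟨fun h => ?_, fun h => h ▸ self_mem_orb H y⟩
  obtain ⟨a, ha, rfl⟩ := (mem_orb H).1 h
  ext z
  simp only [mem_orb]
  constructor
  · rintro ⟨b, hb, rfl⟩; exact ⟨b * a, H.mul_mem hb ha, rfl⟩
  · rintro ⟨b, hb, rfl⟩; exact ⟨b * a⁻¹, H.mul_mem hb (H.inv_mem ha), by simp⟩

theorem orb_eq_of_mem {s : Finset α} (hs : s ∈ orbs H) {x : α} (hx : x ∈ s) : orb H x = s := by
  obtain ⟨y, -, rfl⟩ := Finset.mem_image.1 hs
  exact (mem_orb_iff_eq H).1 hx

theorem orb_mem_orbs (x : α) : orb H x ∈ orbs H := Finset.mem_image_of_mem _ (Finset.mem_univ x)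

theorem filter_orb {s : Finset α} (hs : s ∈ orbs H) : (Finset.univ.filter fun x => orb H x = s) = s := by
  ext x
  simp only [Finset.mem_filter, Finset.mem_univ, true_and]
  exact ⟨fun h => h ▸ self_mem_orb H x, orb_eq_of_mem H hs⟩

theorem parts_sum : (parts H).sum = Fintype.card α := by
  rw [parts, ← Finset.sum_eq_multiset_sum, ← Finset.card_univ,
    Finset.card_eq_sum_card_fiberwise (fun x _ => orb_mem_orbs H x)]
  exact Finset.sum_congr rfl fun s hs => by rw [filter_orb H hs]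

theorem orbs_nonempty (s : {s // s ∈ orbs H}) : ∃ x, x ∈ s.1 := by
  obtain ⟨x, -, hx⟩ := Finset.mem_image.1 s.2
  exact ⟨x, hx ▸ self_mem_orb H x⟩

theorem parts_pos : ∀ k ∈ parts H, 1 ≤ k := fun k hk => by
  obtain ⟨s, hs, rfl⟩ := Multiset.mem_map.1 hk
  obtain ⟨x, hx⟩ := orbs_nonempty H ⟨s, hs⟩
  exact Finset.card_pos.2 ⟨x, hx⟩

theorem prod_parts : ∏ s : {s // s ∈ orbs H}, s.1.card = (parts H).prod := by
  rw [Finset.prod_coe_sort (orbs H) Finset.card, Finset.prod_eq_multiset_prod]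
  rfl

/-- The permutations fixing each orbit and commuting with the group. -/
def cen : Subgroup (Perm α) where
  carrier := {σ | (∀ x, σ x ∈ orb H x) ∧ ∀ a ∈ H, σ * a = a * σ}
  one_mem' := ⟨fun x => self_mem_orb H x, fun a _ => by rw [one_mul, mul_one]⟩
  mul_mem' := fun {σ τ} hσ hτ => ⟨fun x => (mem_orb_iff_eq H).1 (hτ.1 x) ▸ hσ.1 (τ x),
    fun a ha => by rw [mul_assoc, hτ.2 a ha, ← mul_assoc, hσ.2 a ha, mul_assoc]⟩
  inv_mem' := fun {σ} hσ => ⟨fun x => by
      have h := hσ.1 (σ⁻¹ x)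
      rw [show σ (σ⁻¹ x) = x from σ.apply_symm_apply x] at h
      exact (mem_orb_iff_eq H).2 ((mem_orb_iff_eq H).1 h).symm,
    fun a ha => by rw [inv_mul_eq_iff_eq_mul, ← mul_assoc, hσ.2 a ha, mul_inv_cancel_right]⟩

theorem le_cen (hc : ∀ a ∈ H, ∀ b ∈ H, a * b = b * a) : H ≤ cen H := fun a ha =>
  ⟨fun x => apply_mem_orb H ha x, fun b hb => hc a ha b hb⟩

theorem fix_all (hc : ∀ a ∈ H, ∀ b ∈ H, a * b = b * a) {σ : Perm α} (hσ : σ ∈ H) {x y : α}
    (hy : y ∈ orb H x) (hx : σ x = x) : σ y = y := by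
  obtain ⟨b, hb, rfl⟩ := (mem_orb H).1 hy
  rw [← Equiv.Perm.mul_apply, hc σ hσ b hb, Equiv.Perm.mul_apply, hx]

theorem card_cen_le : Nat.card (cen H) ≤ (parts H).prod := by
  classical
  choose base hbase using orbs_nonempty H
  refine le_of_le_of_eq (Nat.card_le_card_of_injective
    (β := (s : {s // s ∈ orbs H}) → {y // y ∈ s.1})
    (fun σ s => ⟨σ.1 (base s), by
      have := σ.2.1 (base s); rwa [orb_eq_of_mem H s.2 (hbase s)] at this⟩) ?_) ?_
  · intro σ τ h
    refine Subtype.ext (Equiv.ext fun x => ?_)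
    have hb := congrArg Subtype.val (congrFun h ⟨orb H x, orb_mem_orbs H x⟩)
    obtain ⟨a, ha, e⟩ := (mem_orb H).1 (show x ∈ orb H (base ⟨orb H x, orb_mem_orbs H x⟩) by
      rw [orb_eq_of_mem H (orb_mem_orbs H x) (hbase ⟨orb H x, orb_mem_orbs H x⟩)]; exact self_mem_orb H x)
    rw [← e, ← Equiv.Perm.mul_apply, ← Equiv.Perm.mul_apply τ.1, σ.2.2 a ha, τ.2.2 a ha, Equiv.Perm.mul_apply,
      Equiv.Perm.mul_apply]
    exact congrArg a hb
  · rw [Nat.card_pi, ← prod_parts]
    exact Finset.prod_congr rfl fun s _ => by simp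

theorem mapsTo_orb {s : Finset α} (hs : s ∈ orbs H) {σ : Perm α} (hσ : σ ∈ H) (x : α) : σ x ∈ s ↔ x ∈ s := by
  have h := (mem_orb_iff_eq H).1 (apply_mem_orb H hσ x)
  exact ⟨fun hx => orb_eq_of_mem H hs hx ▸ h ▸ self_mem_orb H x,
    fun hx => orb_eq_of_mem H hs hx ▸ apply_mem_orb H hσ x⟩

/-- The action on one orbit. -/
noncomputable def res {s : Finset α} (hs : s ∈ orbs H) : H →* Perm {x // x ∈ s} :=
  MonoidHom.mk' (fun σ => σ.1.subtypePerm fun x => mapsTo_orb H hs σ.2 x) fun σ τ => Equiv.ext fun x => rfl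

theorem two_mul_card_le (hc : ∀ a ∈ H, ∀ b ∈ H, a * b = b * a) (heven : H ≤ alternatingGroup α)
    {s : Finset α} (hs : s ∈ orbs H) (σ : H) (hodd : Perm.sign (res H hs σ) = -1) :
    2 * Nat.card H ≤ (parts H).prod := by
  classical
  set τ := Equiv.Perm.ofSubtype (res H hs σ) with hτ
  have hin : ∀ x ∈ s, τ x = σ.1 x := fun x hx => by
    rw [hτ, Equiv.Perm.ofSubtype_apply_of_mem _ hx]; rfl
  have hout : ∀ x, x ∉ s → τ x = x := fun x hx => by
    rw [hτ, Equiv.Perm.ofSubtype_apply_of_not_mem _ hx]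
  have hτc : τ ∈ cen H := by
    refine ⟨fun x => ?_, fun a ha => Equiv.ext fun x => ?_⟩
    · by_cases hx : x ∈ s
      · rw [hin x hx]; exact apply_mem_orb H σ.2 x
      · rw [hout x hx]; exact self_mem_orb H x
    · rw [Equiv.Perm.mul_apply, Equiv.Perm.mul_apply]
      by_cases hx : x ∈ s
      · rw [hin x hx, hin _ ((mapsTo_orb H hs ha x).2 hx), ← Equiv.Perm.mul_apply, hc _ σ.2 a ha,
          Equiv.Perm.mul_apply]
      · rw [hout x hx, hout _ (fun h => hx ((mapsTo_orb H hs ha x).1 h))]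
  have hτH : τ ∉ H := fun h => by
    have := Equiv.Perm.mem_alternatingGroup.1 (heven h)
    rw [hτ, Equiv.Perm.sign_ofSubtype, hodd] at this
    exact absurd this (by decide)
  have h1 := (H.subgroupOf (cen H)).card_mul_index
  rw [Nat.card_congr (Subgroup.subgroupOfEquivOfLe (le_cen H hc)).toEquiv] at h1
  have h2 : 2 ≤ (H.subgroupOf (cen H)).index := by
    have h3 : (H.subgroupOf (cen H)).index ≠ 0 := Subgroup.index_ne_zero_of_finite
    have h4 : (H.subgroupOf (cen H)).index ≠ 1 := fun e => by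
      rw [Subgroup.index_eq_one] at e
      exact hτH (Subgroup.mem_subgroupOf.1 (show (⟨τ, hτc⟩ : cen H) ∈ H.subgroupOf (cen H) by rw [e]; trivial))
    omega
  calc 2 * Nat.card H ≤ (H.subgroupOf (cen H)).index * Nat.card H := Nat.mul_le_mul_right _ h2
    _ = Nat.card (cen H) := by rw [mul_comm, h1]
    _ ≤ _ := card_cen_le H

theorem sign_fpf_involution {β : Type*} [Fintype β] [DecidableEq β] (τ : Perm β) (h2 : τ ^ 2 = 1)
    (hfix : ∀ x, τ x ≠ x) (hk : Fintype.card β % 4 = 2) : Perm.sign τ = -1 := by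
  have hs : τ.support = Finset.univ := Finset.eq_univ_of_forall fun x => Equiv.Perm.mem_support.2 (hfix x)
  have hct : ∀ c ∈ τ.cycleType, c = 2 := fun c hc =>
    le_antisymm (Nat.le_of_dvd two_pos ((Equiv.Perm.dvd_of_mem_cycleType hc).trans (orderOf_dvd_of_pow_eq_one h2)))
      (Equiv.Perm.two_le_of_mem_cycleType hc)
  have hsum := τ.sum_cycleType
  rw [hs, Finset.card_univ, Multiset.eq_replicate_card.2 hct, Multiset.sum_replicate, smul_eq_mul] at hsum
  rw [Equiv.Perm.sign_of_cycleType, Multiset.eq_replicate_card.2 hct, Multiset.sum_replicate, Multiset.card_replicate,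
    smul_eq_mul]
  refine Odd.neg_one_pow ?_
  rw [Nat.odd_iff]
  omega

theorem sign_four : ∀ π : Perm (Fin 4), (∀ x, π x ≠ x) → π * π ≠ 1 → Perm.sign π = -1 := by decide +kernel

theorem res_fpf (hc : ∀ a ∈ H, ∀ b ∈ H, a * b = b * a) {s : Finset α} (hs : s ∈ orbs H) (σ : H)
    (hσ : res H hs σ ≠ 1) (x : {x // x ∈ s}) : res H hs σ x ≠ x := fun e => hσ (Equiv.ext fun y => Subtype.ext
  (fix_all H hc σ.2 (by rw [orb_eq_of_mem H hs x.2]; exact y.2) (congrArg Subtype.val e)))

theorem two_mul_card_le_of_part (hc : ∀ a ∈ H, ∀ b ∈ H, a * b = b * a) (heven : H ≤ alternatingGroup α)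
    {k : ℕ} (hk : k ∈ parts H) (hk2 : k % 4 = 2) : 2 * Nat.card H ≤ (parts H).prod := by
  classical
  obtain ⟨s, hs, rfl⟩ := Multiset.mem_map.1 hk
  obtain ⟨x, hx⟩ := orbs_nonempty H ⟨s, hs⟩
  have hcard : Nat.card (res H hs).range = s.card := by
    rw [← Fintype.card_coe s, ← Nat.card_eq_fintype_card]
    refine Nat.card_eq_of_bijective (fun r => r.1 ⟨x, hx⟩) ⟨?_, fun y => ?_⟩
    · rintro ⟨_, σ, rfl⟩ ⟨_, τ, rfl⟩ e
      refine Subtype.ext (inv_mul_eq_one.1 ?_)
      rw [← map_inv, ← map_mul]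
      by_contra hne
      refine res_fpf H hc hs _ hne ⟨x, hx⟩ ?_
      rw [map_mul, map_inv, Equiv.Perm.mul_apply]
      simp only at e
      rw [← e, Equiv.Perm.inv_def, Equiv.symm_apply_apply]
    · obtain ⟨a, ha, e⟩ := (mem_orb H).1 (show y.1 ∈ orb H x by rw [orb_eq_of_mem H hs hx]; exact y.2)
      exact ⟨⟨res H hs ⟨a, ha⟩, _, rfl⟩, Subtype.ext e⟩
  obtain ⟨⟨_, σ, rfl⟩, hr⟩ := exists_prime_orderOf_dvd_card' (G := (res H hs).range) 2 (by rw [hcard]; omega)
  rw [← Subgroup.orderOf_coe] at hr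
  refine two_mul_card_le H hc heven hs σ (sign_fpf_involution _ (hr ▸ pow_orderOf_eq_one _) ?_ ?_)
  · refine fun y => res_fpf H hc hs σ (fun e => ?_) y
    simp only at hr
    rw [e, orderOf_one] at hr
    exact absurd hr (by norm_num)
  · rwa [Fintype.card_coe]

/-- The description of a group from its orbits. -/
def Crit (f : α → Finset α) (σ : Perm α) : Prop :=
  ∀ x, σ x ∈ f x ∧ (∀ y ∈ f x, σ x = x → σ y = y) ∧ ((f x).card = 4 → σ (σ x) = x)

theorem perm_det : ∀ (π π' : Perm (Fin 3)), (∀ y, π y = y → π = 1) → (∀ y, π' y = y → π' = 1) →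
    ∀ b, π b = π' b → π = π' := by decide +kernel

theorem perm_det' : ∀ (π : Perm (Fin 4)), π * π = 1 → (∀ y, π y = y → π = 1) → ∀ (π' : Perm (Fin 4)), π' * π' = 1 →
    (∀ y, π' y = y → π' = 1) → ∀ b, π b = π' b → π = π' := by decide +kernel

theorem crit_maps {σ : Perm α} (hσ : Crit (orb H) σ) {s : Finset α} (hs : s ∈ orbs H) (x : α) : σ x ∈ s ↔ x ∈ s := by
  have h := (mem_orb_iff_eq H).1 (hσ x).1
  exact ⟨fun hx => orb_eq_of_mem H hs hx ▸ h ▸ self_mem_orb H x,
    fun hx => orb_eq_of_mem H hs hx ▸ (hσ x).1⟩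

theorem card_crit_le (h34 : ∀ k ∈ parts H, k = 3 ∨ k = 4) :
    Nat.card {σ : Perm α // Crit (orb H) σ} ≤ (parts H).prod := by
  classical
  choose base hbase using orbs_nonempty H
  refine le_of_le_of_eq (Nat.card_le_card_of_injective
    (β := (s : {s // s ∈ orbs H}) → {y // y ∈ s.1})
    (fun σ s => ⟨σ.1 (base s), by
      have := (σ.2 (base s)).1; rwa [orb_eq_of_mem H s.2 (hbase s)] at this⟩) ?_) ?_
  · intro σ τ h
    refine Subtype.ext (Equiv.ext fun x => ?_)
    have hs := orb_mem_orbs H x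
    set s := orb H x with hsdef
    set b : {y // y ∈ s} := ⟨base ⟨s, hs⟩, hbase ⟨s, hs⟩⟩
    let πσ : Perm {y // y ∈ s} := σ.1.subtypePerm fun y => crit_maps H σ.2 hs y
    let πτ : Perm {y // y ∈ s} := τ.1.subtypePerm fun y => crit_maps H τ.2 hs y
    have hfix : ∀ (ρ : {σ : Perm α // Crit (orb H) σ}) (y : {y // y ∈ s}),
        ρ.1.subtypePerm (fun z => crit_maps H ρ.2 hs z) y = y → ρ.1.subtypePerm (fun z => crit_maps H ρ.2 hs z) = 1 :=
      fun ρ y e => Equiv.ext fun z => Subtype.ext ((ρ.2 y.1).2.1 z.1 (by rw [orb_eq_of_mem H hs y.2]; exact z.2)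
        (congrArg Subtype.val e))
    have hb : πσ b = πτ b := Subtype.ext (congrArg Subtype.val (congrFun h ⟨s, hs⟩))
    have key : πσ = πτ := by
      rcases h34 _ (Multiset.mem_map.2 ⟨s, hs, rfl⟩) with h3 | h4
      · let e := Fintype.equivFinOfCardEq (show Fintype.card {y // y ∈ s} = 3 by rw [Fintype.card_coe]; exact h3)
        refine e.permCongrHom.injective (perm_det _ _ (fun y hy => ?_) (fun y hy => ?_) (e b) ?_)
        · rw [Equiv.permCongrHom_coe, Equiv.permCongr_apply] at hy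
          rw [show πσ = 1 from hfix σ (e.symm y) (e.injective (by rw [hy, Equiv.apply_symm_apply])), map_one]
        · rw [Equiv.permCongrHom_coe, Equiv.permCongr_apply] at hy
          rw [show πτ = 1 from hfix τ (e.symm y) (e.injective (by rw [hy, Equiv.apply_symm_apply])), map_one]
        · simp [Equiv.permCongr_apply, hb]
      · let e := Fintype.equivFinOfCardEq (show Fintype.card {y // y ∈ s} = 4 by rw [Fintype.card_coe]; exact h4)
        have hinv : ∀ ρ : {σ : Perm α // Crit (orb H) σ},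
            ρ.1.subtypePerm (fun z => crit_maps H ρ.2 hs z) * ρ.1.subtypePerm (fun z => crit_maps H ρ.2 hs z) = 1 :=
          fun ρ => Equiv.ext fun z => Subtype.ext ((ρ.2 z.1).2.2 (by rw [orb_eq_of_mem H hs z.2]; exact h4))
        refine e.permCongrHom.injective (perm_det' _ (by rw [← map_mul, hinv σ, map_one]) (fun y hy => ?_) _
          (by rw [← map_mul, hinv τ, map_one]) (fun y hy => ?_) (e b) ?_)
        · rw [Equiv.permCongrHom_coe, Equiv.permCongr_apply] at hy
          rw [show πσ = 1 from hfix σ (e.symm y) (e.injective (by rw [hy, Equiv.apply_symm_apply])), map_one]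
        · rw [Equiv.permCongrHom_coe, Equiv.permCongr_apply] at hy
          rw [show πτ = 1 from hfix τ (e.symm y) (e.injective (by rw [hy, Equiv.apply_symm_apply])), map_one]
        · simp [Equiv.permCongr_apply, hb]
    exact congrArg (fun π : Perm {y // y ∈ s} => (π ⟨x, self_mem_orb H x⟩).1) key
  · rw [Nat.card_pi, ← prod_parts]
    exact Finset.prod_congr rfl fun s _ => by simp

/-- A largest abelian group of even permutations is determined by its orbits. -/
theorem structure_of_large (hc : ∀ a ∈ H, ∀ b ∈ H, a * b = b * a) (heven : H ≤ alternatingGroup α)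
    (h3 : 3 ≤ Fintype.card α) (h5 : Fintype.card α ≠ 5) (hmax : Gm (Fintype.card α) ≤ Nat.card H) :
    parts H = best (Fintype.card α) ∧ ∀ σ, σ ∈ H ↔ Crit (orb H) σ := by
  classical
  have hle := (Subgroup.card_le_of_le (le_cen H hc)).trans (card_cen_le H)
  have hp : ∀ k ∈ parts H, k % 4 ≠ 2 := fun k hk h2 => by
    have h1 := two_mul_card_le_of_part H hc heven hk h2
    have h4 := prod_lt_of_pen (parts H) (parts_pos H) (by rw [parts_sum]; exact h3) hk h2
    rw [parts_sum] at h4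
    omega
  obtain ⟨h6, h7⟩ := prod_le_Gm (parts H) (parts_pos H) hp
  rw [parts_sum] at h6 h7
  have heq : (parts H).prod = Gm (Fintype.card α) := le_antisymm h6 (hmax.trans hle)
  have hbest := h7 heq
  have hcard : Nat.card H = (parts H).prod := le_antisymm hle (heq ▸ hmax)
  have h34 : ∀ k ∈ parts H, k = 3 ∨ k = 4 := fun k hk => best_mem h3 h5 k (hbest ▸ hk)
  refine ⟨hbest, ?_⟩
  have hsub : ∀ σ ∈ H, Crit (orb H) σ := by
    intro σ hσ x
    refine ⟨apply_mem_orb H hσ x, fun y hy hx => fix_all H hc hσ hy hx, fun h4 => ?_⟩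
    by_contra hne
    have hs := orb_mem_orbs H x
    let e := Fintype.equivFinOfCardEq (show Fintype.card {y // y ∈ orb H x} = 4 by rw [Fintype.card_coe]; exact h4)
    have hσ1 : res H hs ⟨σ, hσ⟩ ≠ 1 := fun h1 => by
      have := congrArg (fun π : Perm {y // y ∈ orb H x} => (π ⟨x, self_mem_orb H x⟩).1) h1
      exact hne (by change σ x = x at this; rw [this, this])
    have hsg := sign_four (e.permCongrHom (res H hs ⟨σ, hσ⟩)) (fun y hy => by
      rw [Equiv.permCongrHom_coe, Equiv.permCongr_apply] at hy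
      exact res_fpf H hc hs _ hσ1 (e.symm y) (e.injective (by rw [hy, Equiv.apply_symm_apply]))) (fun h1 => by
      rw [← map_mul, map_eq_one_iff _ e.permCongrHom.injective] at h1
      exact hne (congrArg (fun π : Perm {y // y ∈ orb H x} => (π ⟨x, self_mem_orb H x⟩).1) h1))
    rw [Equiv.permCongrHom_coe, Equiv.Perm.sign_permCongr] at hsg
    have := two_mul_card_le H hc heven hs ⟨σ, hσ⟩ hsg
    have := Gm_pos (Fintype.card α)
    omega
  have hset : (H : Set (Perm α)) = {σ | Crit (orb H) σ} := by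
    refine Set.eq_of_subset_of_ncard_le hsub ?_
    rw [← Nat.card_coe_set_eq, ← Nat.card_coe_set_eq]
    exact (card_crit_le H h34).trans hcard.ge
  exact fun σ => Set.ext_iff.1 hset σ

end CfsgLib.AltMaxAbelian
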